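import Groth.Prelude.Def_EtDl
import Groth.Agent.Sga4h.ModRestr
import Groth.Agent.Sga4h.FunLES
import Groth.Agent.Etrest.ModAbR

/-!
# `j_!` for sheaves of modules

* `extAbIso`: `j_!` commutes with passing to the underlying abelian sheaves;
* `preservesFiniteLimits_extZeroMod`, `preservesFiniteColimits_extZeroMod`: `j_!` is exact;
* `isZero_rightDerived_extZeroMod`: its higher right derived functors vanish;
* `isZero_of_ab`, `isTorsion_ab`.
-/

set_option autoImplicit false
universe u
open CategoryTheory CategoryTheory.Limits AlgebraicGeometry Opposite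

attribute [local instance] HasDerivedCategory.standard

namespace Groth.Agent.Etdl.H423.ModBasic

open Groth.Agent.Etrest.ModAb

variable (Λ : Type (u + 1)) [CommRing Λ]

section ext

variable {U X : Scheme.{u}} (j : U ⟶ X) [Etale j] [EtShriek.JCont j]

/-- Restriction commutes with coinduction. -/
noncomputable def restrCoindIso :
    coindSh Λ X ⋙ EtDl.restrMod Λ j ≅ EtShriek.restrAlong j ⋙ coindSh Λ U :=
  NatIso.ofComponents (fun _ => Iso.refl _) (fun _ => by
    apply Sheaf.hom_ext
    rfl)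

/-- Extension by zero commutes with passing to the underlying abelian sheaves. -/
noncomputable def extAbIso :
    EtDl.extZeroMod Λ j ⋙ ab Λ X ≅ ab Λ U ⋙ EtShriek.extZero j :=
  (((EtDl.extZeroModAdj Λ j).comp (coindShAdj Λ X)).ofNatIsoRight
    (restrCoindIso Λ j)).leftAdjointUniq ((coindShAdj Λ U).comp (EtShriek.extZeroAdj j))

instance preservesFiniteLimits_extZeroMod : PreservesFiniteLimits (EtDl.extZeroMod Λ j) :=
  Groth.Agent.Sga4h.ModRestr.preservesFiniteLimits_ext Λ j

instance preservesFiniteColimits_extZeroMod : PreservesFiniteColimits (EtDl.extZeroMod Λ j) :=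
  Groth.Agent.Sga4h.ModRestr.preservesFiniteColimits_ext Λ j

theorem isZero_rightDerived_extZeroMod (F : EtModW.Mod Λ U) (i : ℕ) (hi : 0 < i) :
    IsZero (((EtDl.extZeroMod Λ j).rightDerived i).obj F) := by
  obtain ⟨n, rfl⟩ : ∃ n, i = n + 1 := ⟨i - 1, by lia⟩
  exact Groth.Agent.Sga4h.FunLES.isZero_rightDerived_of_exact _ F n

end ext

theorem isZero_of_ab {X : Scheme.{u}} (F : EtModW.Mod Λ X) (h : IsZero ((ab Λ X).obj F)) :
    IsZero F := by
  rw [IsZero.iff_id_eq_zero]
  apply (ab Λ X).map_injective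
  exact h.eq_of_src _ _

theorem isTorsion_ab (n : ℕ) (hn : 0 < n) (hΛ : (n : Λ) = 0) {X : Scheme.{u}}
    (F : EtModW.Mod Λ X) : EtCoh.IsTorsion ((ab Λ X).obj F) := by
  intro U s x
  refine ⟨U, 𝟙 U, ⟨x, rfl⟩, isOfFinAddOrder_iff_nsmul_eq_zero.2 ⟨n, hn, ?_⟩⟩
  have h : ∀ t : F.obj.obj (op U), n • t = 0 := fun t => by
    rw [← Nat.cast_smul_eq_nsmul Λ, hΛ, zero_smul]
  exact h _

end Groth.Agent.Etdl.H423.ModBasic
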