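import Groth.Prelude.Def_EtDl
import Groth.Agent.Etdl.H423.ModBasic
import Groth.Agent.Etdl.H424.PlusAdj
import Groth.Agent.Etrest.ModAbR
import Groth.Agent.Etrest.RpushSum
import Groth.Agent.Sga4h.GenULADim
import Groth.Agent.S0126

/-!
# Geometric inputs for the existence of `Rf^!` on `D^+(X_et, Λ)`

* `exists_vanishing`: for `p` proper over a quasi-compact base and `Λ` torsion, `R^q p_* = 0` on
  sheaves of `Λ`-modules for `q > N`;
* `preservesColimitsOfShape_rightDerived_push`: `R^q f_*` preserves coproducts indexed by `Type (u + 1)`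
  for `f` quasi-compact quasi-separated;
* `isLeftAdjoint_extZeroPlus`: `j_!` on `D^+` is a left adjoint.
-/

set_option autoImplicit false
universe u
open CategoryTheory CategoryTheory.Limits AlgebraicGeometry Opposite

attribute [local instance] HasDerivedCategory.standard

namespace Groth.Agent.Etdl.H423.PushModCoprod

open Groth.Agent.Etrest.ModAb Groth.Agent.Etdl.H423.ModBasic

variable (Λ : Type (u + 1)) [CommRing Λ]

/-- The fibres of a finite type morphism with quasi-compact source have bounded dimension, and `R^q p_*`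
vanishes on sheaves of `Λ`-modules, `Λ` torsion, above twice that bound. -/
theorem isZero_Rpush {P S : Scheme.{u}} (p : P ⟶ S) [IsProper p] (d : ℕ)
    (hdim : ∀ s : S, topologicalKrullDim ↥(p.fiber s) ≤ d) (n : ℕ) (hn : 0 < n)
    (hΛ : (n : Λ) = 0) (F : EtModW.Mod Λ P) (q : ℕ) (hq : 2 * d < q) :
    IsZero (((EtModW.push Λ p).rightDerived q).obj F) := by
  refine isZero_of_ab Λ _ ?_
  refine IsZero.of_iso ?_ ((rpushIso Λ p q).app F)
  exact Groth.Agent.S0126.result p d hdim _ (isTorsion_ab Λ n hn hΛ F) q hq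

theorem exists_vanishing {P S : Scheme.{u}} [CompactSpace S] (p : P ⟶ S) [IsProper p] (n : ℕ)
    (hn : 0 < n) (hΛ : (n : Λ) = 0) :
    ∃ N : ℕ, ∀ (q : ℕ), N < q → ∀ F : EtModW.Mod Λ P,
      IsZero (((EtModW.push Λ p).rightDerived q).obj F) := by
  have : CompactSpace P := QuasiCompact.compactSpace_of_compactSpace p
  obtain ⟨d, hd⟩ := Groth.Agent.Sga4h.GenULADim.exists_dim_bound p
  exact ⟨2 * d, fun q hq F => isZero_Rpush Λ p d hd n hn hΛ F q hq⟩

instance hasColimitsOfShape_discrete (X : Scheme.{u}) (J : Type (u + 1)) :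
    HasColimitsOfShape (Discrete J) (EtModW.Mod Λ X) :=
  have : HasColimitsOfShape (Discrete J) (ModuleCat.{u + 1} Λ) := inferInstance
  @Sheaf.instHasColimitsOfShape _ _ X.smallEtaleTopology (ModuleCat.{u + 1} Λ) _ (Discrete J) _ _ this

/-- `R^q f_*` on sheaves of `Λ`-modules commutes with direct sums. -/
theorem preservesColimitsOfShape_rightDerived_push {X Y : Scheme.{u}} (f : X ⟶ Y) [QuasiCompact f]
    [QuasiSeparated f] (q : ℕ) (J : Type (u + 1)) :
    PreservesColimitsOfShape (Discrete J) ((EtModW.push Λ f).rightDerived q) := by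
  have h1 : PreservesColimitsOfShape (Discrete J) (EtCoh.Rpush f q) :=
    Groth.Agent.Etrest.RpushSum.preservesColimitsOfShape_Rpush J f q
  have h2 : PreservesColimitsOfShape (Discrete J) (ab Λ X ⋙ EtCoh.Rpush f q) := inferInstance
  have h3 : PreservesColimitsOfShape (Discrete J) (EtModW.Rpush Λ f q ⋙ ab Λ Y) :=
    preservesColimitsOfShape_of_natIso (rpushIso Λ f q).symm
  have h4 : ReflectsColimitsOfShape (Discrete J) (ab Λ Y) :=
    reflectsColimitsOfShape_of_reflectsIsomorphisms
  exact preservesColimitsOfShape_of_reflects_of_preserves _ (ab Λ Y)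

/-- `j_!` on `D^+` is a left adjoint. -/
theorem isLeftAdjoint_extZeroPlus {U X : Scheme.{u}} (j : U ⟶ X) [Etale j] [EtShriek.JCont j] :
    (EtDl.extZeroPlus Λ j).IsLeftAdjoint :=
  (Groth.Agent.Etdl.H424.PlusAdj.dadj (EtDl.extZeroModAdj Λ j)).isLeftAdjoint

end Groth.Agent.Etdl.H423.PushModCoprod
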