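import Groth.Agent.Etdl.H423.Amp
import Groth.Agent.Etdl.H423.ModBasic
import Groth.Agent.S3110

/-!
# The amplitude of `Rf_!` on `D^+`

* `isZero_Rpush_extZeroMod`: `R^i fbar_* (j_! F) = 0` for `i > 2d`;
* `isLE_RshriekPlus`: `Rf_!` raises `IsLE` by at most `2d`.
-/

set_option autoImplicit false
universe u
open CategoryTheory CategoryTheory.Limits AlgebraicGeometry Opposite

attribute [local instance] HasDerivedCategory.standard

namespace Groth.Agent.Etdl.H423.ShriekMod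

open Groth.Agent.Etrest.ModAb Groth.Agent.Etdl.H423.ModBasic

variable (Λ : Type (u + 1)) [CommRing Λ]

variable {X S : Scheme.{u}} {f : X ⟶ S} (c : DEt.Compactification f)

theorem isZero_Rpush_extZeroMod (d : ℕ)
    (hdim : ∀ s : S, topologicalKrullDim ↥(f.fiber s) ≤ d) (n : ℕ) (hn : 0 < n)
    (hΛ : (n : Λ) = 0) (F : EtModW.Mod Λ X) (i : ℕ) (hi : 2 * d < i) :
    IsZero ((EtModW.Rpush Λ c.fbar i).obj ((EtDl.extZeroMod Λ c.j).obj F)) := by
  refine isZero_of_ab Λ _ ?_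
  refine IsZero.of_iso ?_ ((rpushIso Λ c.fbar i).app _ ≪≫
    (EtCoh.Rpush c.fbar i).mapIso ((extAbIso Λ c.j).app F))
  refine Groth.Agent.S3110.result c.j c.fbar d ?_ _ (isTorsion_ab Λ n hn hΛ F) i hi
  rw [c.fac]
  exact hdim

/-- The cohomological amplitude of `Rf_!`. -/
theorem isLE_RshriekPlus (d : ℕ)
    (hdim : ∀ s : S, topologicalKrullDim ↥(f.fiber s) ≤ d) (n : ℕ) (hn : 0 < n)
    (hΛ : (n : Λ) = 0) (K : DerivedCategory.Plus (EtModW.Mod Λ X)) (b : ℤ) (hK : K.IsLE b) :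
    ((EtDl.RshriekPlus Λ c).obj K).IsLE (b + 2 * (d : ℤ)) := by
  have h := Amp.isLE_comp (EtDl.extZeroMod Λ c.j) (EtModW.push Λ c.fbar)
    (fun F i hi => isZero_rightDerived_extZeroMod Λ c.j F i hi) (2 * d)
    (fun F i hi => isZero_Rpush_extZeroMod Λ c d hdim n hn hΛ F i hi) K b hK
  exact_mod_cast h

end Groth.Agent.Etdl.H423.ShriekMod
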