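import Groth.Agent.Etrest.RDer1

/-!
# Amplitude lemmas on bounded below derived categories

* `isGE_of_adj`: the right adjoint of a functor raising `IsLE` by `N` lowers `IsGE` by `N`.
* `isLE_of_single`: a triangulated functor on `D^+` raising `IsLE` by `N` on objects placed in degree
  zero raises `IsLE` by `N`.
* `isLE_rightDerivedFunctorPlus`: the case of `F.rightDerivedFunctorPlus` when `R^i F = 0` for `i > N`.
* `isZero_homology_of_neg`, `isLE_single_of_rightDerived`, `isGE_rightDerivedFunctorPlus`.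
-/

set_option autoImplicit false
universe w w' v v' u u'
open CategoryTheory CategoryTheory.Limits CategoryTheory.Triangulated CategoryTheory.Pretriangulated

namespace Groth.Agent.Etdl.H423.Amp

section adj

variable {C : Type u} [Category.{v} C] [HasZeroObject C] [Preadditive C] [HasShift C ℤ]
  [∀ n : ℤ, (shiftFunctor C n).Additive] [Pretriangulated C]
  {D : Type u'} [Category.{v'} D] [HasZeroObject D] [Preadditive D] [HasShift D ℤ]
  [∀ n : ℤ, (shiftFunctor D n).Additive] [Pretriangulated D]

/-- The right adjoint of a functor raising `IsLE` by `N` lowers `IsGE` by `N`. -/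
theorem isGE_of_adj (tC : TStructure C) (tD : TStructure D) {Φ : C ⥤ D} {G : D ⥤ C} (adj : Φ ⊣ G)
    (N : ℤ) (h : ∀ (K : C) (b : ℤ), tC.IsLE K b → tD.IsLE (Φ.obj K) (b + N)) (L : D) (k : ℤ)
    (hL : tD.IsGE L k) : tC.IsGE (G.obj L) (k - N) := by
  rw [tC.isGE_iff_orthogonal (k - N - 1) (k - N) (by lia)]
  intro Y f hY
  have h1 := h Y _ hY
  have h2 : ∀ g : Φ.obj Y ⟶ L, g = 0 := fun g =>
    tD.zero g (k - N - 1 + N) k (by lia)
  refine (adj.homEquiv Y L).symm.injective ?_
  rw [h2 ((adj.homEquiv Y L).symm f), h2 ((adj.homEquiv Y L).symm 0)]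

end adj

section single

variable {A : Type u} [Category.{v} A] [Abelian A] [HasDerivedCategory.{w} A]
  {B : Type u'} [Category.{v'} B] [Abelian B] [HasDerivedCategory.{w'} B]

open DerivedCategory

/-- An object of `D^+` concentrated in one degree is a shifted object. -/
theorem exists_iso_single (K : DerivedCategory.Plus A) (n : ℤ) (h1 : K.IsGE n) (h2 : K.IsLE n) :
    ∃ X : A, Nonempty (K ≅ ((DerivedCategory.Plus.singleFunctor A 0).obj X)⟦-n⟧) := by
  obtain ⟨X, ⟨e⟩⟩ := DerivedCategory.exists_iso_singleFunctor_obj_of_isGE_of_isLE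
    (DerivedCategory.Plus.ι.obj K) n
  refine ⟨X, ⟨DerivedCategory.Plus.ι.preimageIso (e ≪≫ ?_)⟩⟩
  exact (((DerivedCategory.singleFunctors A).shiftIso (-n) n 0 (by lia)).app X).symm ≪≫
    ((DerivedCategory.Plus.ι (C := A)).commShiftIso (-n)).symm.app
      ((DerivedCategory.Plus.singleFunctor A 0).obj X)

variable (Φ : DerivedCategory.Plus A ⥤ DerivedCategory.Plus B) [Φ.CommShift ℤ] [Φ.IsTriangulated]

theorem isLE_of_single (N : ℤ)
    (h : ∀ X : A, (Φ.obj ((DerivedCategory.Plus.singleFunctor A 0).obj X)).IsLE N)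
    (K : DerivedCategory.Plus A) (b : ℤ) (hK : K.IsLE b) : (Φ.obj K).IsLE (b + N) := by
  obtain ⟨a, ha⟩ := K.property
  have ha' : K.IsGE a := (DerivedCategory.Plus.isGE_ι_obj_iff K a).1 ha
  obtain ⟨n, hn⟩ : ∃ n : ℕ, K.IsGE (b + 1 - n) := by
    refine ⟨(b + 1 - a).toNat, DerivedCategory.Plus.TStructure.t.isGE_of_ge K _ a ?_⟩
    have := Int.self_le_toNat (b + 1 - a)
    lia
  clear ha ha'
  induction n generalizing K b with
  | zero =>
    have : IsZero K := DerivedCategory.Plus.TStructure.t.isZero K b (b + 1 - (0 : ℕ)) (by simp)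
    exact DerivedCategory.Plus.TStructure.t.isLE_of_isZero (Φ.map_isZero this) _
  | succ n ih =>
    let t := DerivedCategory.Plus.TStructure.t (C := A)
    have hT := t.triangleLTGE_distinguished b K
    have h1 : t.IsLE ((t.truncLT b).obj K) (b - 1) := inferInstance
    have h2 : t.IsGE ((t.truncGE b).obj K) b := inferInstance
    have h3 : t.IsLE ((t.truncGE b).obj K) b := inferInstance
    have h4 : t.IsGE ((t.truncLT b).obj K) (b - 1 + 1 - n) := by
      have : t.IsGE K (b - 1 + 1 - n) := by
        convert hn using 1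
        push_cast
        ring
      infer_instance
    have h5 := ih ((t.truncLT b).obj K) (b - 1) h1 h4
    refine DerivedCategory.Plus.TStructure.t.isLE₂ _ (Φ.map_distinguished _ hT) (b + N) ?_ ?_
    · exact DerivedCategory.Plus.TStructure.t.isLE_of_le (Φ.obj ((t.truncLT b).obj K)) _ _
        (by lia : b - 1 + N ≤ b + N)
    · obtain ⟨X, ⟨e⟩⟩ := exists_iso_single ((t.truncGE b).obj K) b h2 h3
      have h6 := h X
      have h7 : DerivedCategory.Plus.TStructure.t.IsLE
          ((Φ.obj ((DerivedCategory.Plus.singleFunctor A 0).obj X))⟦-b⟧) (b + N) :=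
        DerivedCategory.Plus.TStructure.t.isLE_shift _ N (-b) (b + N) (by lia)
      exact DerivedCategory.Plus.TStructure.t.isLE_of_iso
        (X := (Φ.obj ((DerivedCategory.Plus.singleFunctor A 0).obj X))⟦-b⟧)
        ((Φ.mapIso e ≪≫ (Φ.commShiftIso (-b)).app _).symm) (b + N)

end single

section derived

variable {A : Type u} [Category.{v} A] [Abelian A] [HasDerivedCategory.{w} A] [EnoughInjectives A]
  {B : Type u'} [Category.{v'} B] [Abelian B] [HasDerivedCategory.{w'} B]
  (F : A ⥤ B) [F.Additive]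

open DerivedCategory Groth.Agent.Etrest.RDer1

omit [EnoughInjectives A] in
theorem isLE_iff_homology (K : DerivedCategory.Plus A) (n : ℤ) :
    K.IsLE n ↔ ∀ i : ℤ, n < i → IsZero ((DerivedCategory.Plus.homologyFunctor A i).obj K) := by
  rw [← DerivedCategory.Plus.isLE_ι_obj_iff, DerivedCategory.isLE_iff]
  rfl

omit [EnoughInjectives A] in
theorem isGE_iff_homology (K : DerivedCategory.Plus A) (n : ℤ) :
    K.IsGE n ↔ ∀ i : ℤ, i < n → IsZero ((DerivedCategory.Plus.homologyFunctor A i).obj K) := by
  rw [← DerivedCategory.Plus.isGE_ι_obj_iff, DerivedCategory.isGE_iff]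
  rfl

/-- The derived functor of an object in degree zero has no cohomology in negative degrees. -/
theorem isGE_RG_single (X : A) :
    ((RG F).obj ((DerivedCategory.Plus.singleFunctor A 0).obj X)).IsGE 0 := by
  rw [isGE_iff_homology]
  intro i hi
  let R := injectiveResolution X
  refine IsZero.of_iso ?_ ((DerivedCategory.Plus.homologyFunctor B i).mapIso
    ((RG F).mapIso (resIso R)) ≪≫ (HInj F i).app (resPlus R))
  refine ShortComplex.isZero_homology_of_isZero_X₂ _ ?_
  exact F.map_isZero (CochainComplex.isZero_of_isStrictlyGE (R.cochainComplex) 0 i hi)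

/-- The derived functor of an object in degree zero is concentrated in degrees `≤ N` if the higher
derived functors vanish in degrees `> N` on this object. -/
theorem isLE_RG_single (X : A) (N : ℕ)
    (h : ∀ i : ℕ, N < i → IsZero ((F.rightDerived i).obj X)) :
    ((RG F).obj ((DerivedCategory.Plus.singleFunctor A 0).obj X)).IsLE N := by
  rw [isLE_iff_homology]
  intro i hi
  obtain ⟨n, rfl⟩ : ∃ n : ℕ, i = n := ⟨i.toNat, by lia⟩
  exact IsZero.of_iso (h n (by exact_mod_cast hi)) ((hSingleIso F n).app X)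

/-- The value of the derived functor of a left exact functor on an acyclic object. -/
theorem RG_single_iso [PreservesFiniteLimits F] (X : A)
    (h : ∀ i : ℕ, 0 < i → IsZero ((F.rightDerived i).obj X)) :
    Nonempty ((RG F).obj ((DerivedCategory.Plus.singleFunctor A 0).obj X) ≅
      (DerivedCategory.Plus.singleFunctor B 0).obj (F.obj X)) := by
  have h1 := isGE_RG_single F X
  have h2 := isLE_RG_single F X 0 h
  obtain ⟨Y, ⟨e⟩⟩ := exists_iso_single _ 0 h1 h2
  have e' : (RG F).obj ((DerivedCategory.Plus.singleFunctor A 0).obj X) ≅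
      (DerivedCategory.Plus.singleFunctor B 0).obj Y :=
    e ≪≫ (shiftFunctorZero' _ (-0 : ℤ) (by lia)).app _
  have e1 : (F.rightDerived 0).obj X ≅ Y :=
    ((hSingleIso F 0).app X).symm ≪≫ (DerivedCategory.Plus.homologyFunctor B 0).mapIso e' ≪≫
      (DerivedCategory.singleFunctorCompHomologyFunctorIso B 0).app Y
  have e2 : F.obj X ≅ Y := (F.rightDerivedZeroIsoSelf.app X).symm ≪≫ e1
  exact ⟨e' ≪≫ (DerivedCategory.Plus.singleFunctor B 0).mapIso e2.symm⟩

/-- `RF` raises `IsLE` by `N` if `R^i F = 0` for `i > N`. -/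
theorem isLE_rightDerivedFunctorPlus (N : ℕ)
    (h : ∀ (X : A) (i : ℕ), N < i → IsZero ((F.rightDerived i).obj X))
    (K : DerivedCategory.Plus A) (b : ℤ) (hK : K.IsLE b) :
    (F.rightDerivedFunctorPlus.obj K).IsLE (b + N) := by
  have := isLE_of_single (RG F) N (fun X => isLE_RG_single F X N (h X)) K b hK
  exact DerivedCategory.Plus.TStructure.t.isLE_of_iso ((RGIso F).app K).symm _

variable {C : Type*} [Category* C] [Abelian C] [HasDerivedCategory C] [EnoughInjectives B]
  (G : B ⥤ C) [G.Additive]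

/-- The composite of the derived functors of an exact functor `F` and of `G` raises `IsLE` by `N` if
`R^i G (F X) = 0` for all `X` and `i > N`. -/
theorem isLE_comp [PreservesFiniteLimits F]
    (hF : ∀ (X : A) (i : ℕ), 0 < i → IsZero ((F.rightDerived i).obj X)) (N : ℕ)
    (h : ∀ (X : A) (i : ℕ), N < i → IsZero ((G.rightDerived i).obj (F.obj X)))
    (K : DerivedCategory.Plus A) (b : ℤ) (hK : K.IsLE b) :
    ((F.rightDerivedFunctorPlus ⋙ G.rightDerivedFunctorPlus).obj K).IsLE (b + N) := by
  have := isLE_of_single (RG F ⋙ RG G) N (fun X => by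
    obtain ⟨e⟩ := RG_single_iso F X (hF X)
    have := isLE_RG_single G (F.obj X) N (h X)
    exact DerivedCategory.Plus.TStructure.t.isLE_of_iso
      (X := (RG G).obj ((DerivedCategory.Plus.singleFunctor B 0).obj (F.obj X)))
      ((RG G).mapIso e.symm) _) K b hK
  exact DerivedCategory.Plus.TStructure.t.isLE_of_iso
    (X := (RG F ⋙ RG G).obj K) (((RG G).mapIso ((RGIso F).app K) ).symm ≪≫
      ((RGIso G).app (F.rightDerivedFunctorPlus.obj K)).symm) _

end derived

end Groth.Agent.Etdl.H423.Amp
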